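import Groth.Prelude.Def_W4c4chowquasisplitNorm
import Mathlib.AlgebraicGeometry.ResidueField
import Mathlib.RingTheory.LocalRing.ResidueField.Ideal
import Mathlib.LinearAlgebra.Dimension.Finrank
import Mathlib.GroupTheory.Index
import Mathlib.RingTheory.LocalRing.ResidueField.Basic

/-! The norm subgroup of `CH₀` of a point. -/

set_option backward.isDefEq.respectTransparency.types false

universe u

open CategoryTheory AlgebraicGeometry

namespace Groth.Agent.PtNorm19

noncomputable def psi (K : Type u) [Field K] (y : Spec (CommRingCat.of K)) :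
    CommRingCat.of K ⟶ (Spec (CommRingCat.of K)).residueField y :=
  CommRingCat.ofHom (algebraMap K _) ≫ (Scheme.Spec.residueFieldIso (CommRingCat.of K) y).inv

theorem psi_bijective (K : Type u) [Field K] (y : Spec (CommRingCat.of K)) :
    Function.Bijective (psi K y) := by
  haveI : y.asIdeal.IsMaximal := Ideal.IsPrime.isMaximal' y.2
  exact ⟨(psi K y).hom.injective,
    (ConcreteCategory.bijective_of_isIso (Scheme.Spec.residueFieldIso (CommRingCat.of K) y).inv).2.comp
      y.asIdeal.algebraMap_residueField_surjective⟩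

theorem map_psi (K : Type u) [Field K] (y : Spec (CommRingCat.of K)) :
    Spec.map (psi K y) = (Spec (CommRingCat.of K)).fromSpecResidueField y := by
  rw [psi, Spec.map_comp]
  exact Scheme.Spec.map_residueFieldIso_inv_eq_fromSpecResidueField (CommRingCat.of K) y

theorem residueDegree_map (k F : Type u) [Field k] [Field F] [Algebra k F] (y : Spec (CommRingCat.of F)) :
    (Spec.map (CommRingCat.ofHom (algebraMap k F))).residueDegree y = Module.finrank k F := by
  set f := Spec.map (CommRingCat.ofHom (algebraMap k F))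
  have h : CommRingCat.ofHom (algebraMap k F) ≫ psi F y = psi k (f y) ≫ f.residueFieldMap y := by
    refine Spec.map_injective ?_
    rw [Spec.map_comp, Spec.map_comp, map_psi, map_psi, Scheme.Hom.SpecMap_residueFieldMap_fromSpecResidueField]
  letI := (f.residueFieldMap y).hom.toAlgebra
  show Module.finrank _ _ = _
  refine (Algebra.finrank_eq_of_equiv_equiv (RingEquiv.ofBijective _ (psi_bijective k (f y)))
    (RingEquiv.ofBijective _ (psi_bijective F y)) ?_).symm
  ext c
  exact (ConcreteCategory.congr_hom h c).symm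

variable {k : Type u} [Field k]

/-- A constant cycle on a point. -/
noncomputable def constCycle (K : Type u) [Field K] (m : ℤ) : AlgebraicCycle (Spec (CommRingCat.of K)) ℤ where
  toFun := fun _ => m
  supportWithinDomain' := by simp
  supportLocallyFiniteWithinDomain' := fun _ _ => ⟨Set.univ, Filter.univ_mem, Set.toFinite _⟩

noncomputable def evHom (k : Type u) [Field k] :
    ↥(ChowOps.zk (Spec (CommRingCat.of k)) (fun _ => 0) 0) →+ ℤ where
  toFun a := (a : AlgebraicCycle (Spec (CommRingCat.of k)) ℤ) (IsLocalRing.closedPoint k)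
  map_zero' := rfl
  map_add' _ _ := rfl

theorem ratTriv_le (k : Type u) [Field k] :
    ChowOps.ratTriv (Spec (CommRingCat.of k)) (fun _ => 0) 0 ≤ (evHom k).ker := by
  refine (AddSubgroup.closure_le _).2 ?_
  rintro a ⟨ι, ξ, f, h1, -, -, h⟩
  show (a : AlgebraicCycle (Spec (CommRingCat.of k)) ℤ) _ = 0
  rw [h]
  haveI : IsEmpty ι := ⟨fun i => by simpa using h1 i⟩
  exact finsum_of_isEmpty _

/-- The degree on `CH₀` of a point. -/
noncomputable def degHom (k : Type u) [Field k] :
    ChowOps.CH (Spec (CommRingCat.of k)) (fun _ => 0) 0 →+ ℤ :=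
  QuotientAddGroup.lift _ (evHom k) (ratTriv_le k)

theorem degHom_cl (α : AlgebraicCycle (Spec (CommRingCat.of k)) ℤ) (h) :
    degHom k (ChowOps.cl (δ := fun _ => 0) (k := 0) α h) = α (IsLocalRing.closedPoint k) := rfl

theorem degHom_bijective (k : Type u) [Field k] : Function.Bijective (degHom k) := by
  refine ⟨(injective_iff_map_eq_zero _).2 fun c hc => ?_,
    fun m => ⟨ChowOps.cl (δ := fun _ => 0) (k := 0) (constCycle k m) (fun _ h => absurd rfl h), rfl⟩⟩
  obtain ⟨a, rfl⟩ := QuotientAddGroup.mk_surjective c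
  have : a = 0 := by
    refine Subtype.ext (DFunLike.ext _ _ fun x => ?_)
    rw [Subsingleton.elim (α := Spec (CommRingCat.of k)) x (IsLocalRing.closedPoint k)]
    exact hc
  rw [this]
  rfl

theorem degHom_push (F : Type u) [Field F] [Algebra k F] (α : AlgebraicCycle (Spec (CommRingCat.of F)) ℤ) (h) :
    degHom k (ChowOps.cl (δ := fun _ => 0) (k := 0)
      (AlgebraicCycle.map (Spec.map (CommRingCat.ofHom (algebraMap k F))) (fun _ => (0 : ℤ)) (fun _ => (0 : ℤ)) α) h) =
      α (IsLocalRing.closedPoint F) * (Module.finrank k F : ℤ) := by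
  rw [degHom_cl]
  show ∑ᶠ x ∈ _, _ = _
  classical
  refine (finsum_eq_single _ (IsLocalRing.closedPoint F : Spec (CommRingCat.of F))
      (fun x hx => absurd (Subsingleton.elim (α := Spec (CommRingCat.of F)) _ _) hx)).trans ?_
  refine finsum_eq_if.trans ((if_pos (Subsingleton.elim (α := Spec (CommRingCat.of k)) _ _)).trans ?_)
  congr 1
  show ((if (0 : ℤ) = 0 then _ else _ : ℕ) : ℤ) = _
  rw [if_pos rfl, residueDegree_map]

variable (K : Type u) [Field K] [Algebra k K]

/-- The image of the norm subgroup in `ℤ`. -/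
theorem map_ptNormSubgroup : (QsChow.ptNormSubgroup k K).map (degHom k) = AddSubgroup.closure
    {z | ∃ F : IntermediateField k K, FiniteDimensional k F ∧ F ≠ ⊥ ∧ (Module.finrank k F : ℤ) ∣ z} := by
  rw [QsChow.ptNormSubgroup, AddMonoidHom.map_closure]
  refine congrArg _ (Set.ext fun z => ⟨?_, ?_⟩)
  · rintro ⟨c, ⟨F, hF, hF', α, h, rfl⟩, rfl⟩
    exact ⟨F, hF, hF', ⟨_, (degHom_push (↥F) α h).trans (mul_comm _ _)⟩⟩
  · rintro ⟨F, hF, hF', m, rfl⟩
    refine ⟨_, ⟨F, hF, hF', constCycle F m, fun _ h => absurd rfl h, rfl⟩, ?_⟩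
    exact (degHom_push (↥F) _ _).trans (mul_comm _ _)

theorem index_ptNormSubgroup : (QsChow.ptNormSubgroup k K).index =
    (AddSubgroup.closure
      {z : ℤ | ∃ F : IntermediateField k K, FiniteDimensional k F ∧ F ≠ ⊥ ∧ (Module.finrank k F : ℤ) ∣ z}).index := by
  rw [← map_ptNormSubgroup K, AddSubgroup.index_map_of_bijective (f := degHom k) (degHom_bijective k)]

end Groth.Agent.PtNorm19
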